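import Mathlib

/-!
# Alternating sums of ranks
-/

set_option autoImplicit false

namespace Groth.Agent.Helper2.BE

lemma altSum_succ (n : ℕ → ℕ) (j e : ℕ) (hj : j ≤ e) :
    ∑ t ∈ Finset.Icc j e, (-1 : ℤ) ^ (t - j) * (n t : ℤ) =
      (n j : ℤ) - ∑ t ∈ Finset.Icc (j + 1) e, (-1 : ℤ) ^ (t - (j + 1)) * (n t : ℤ) := by
  rw [← Finset.sum_Ioc_add_eq_sum_Icc hj, ← Finset.Icc_succ_left_eq_Ioc, Nat.succ_eq_succ,
    Nat.succ_eq_add_one]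
  have : ∀ t ∈ Finset.Icc (j + 1) e, (-1 : ℤ) ^ (t - j) * (n t : ℤ) =
      -((-1 : ℤ) ^ (t - (j + 1)) * (n t : ℤ)) := by
    intro t ht
    rw [Finset.mem_Icc] at ht
    have : t - j = (t - (j + 1)) + 1 := by omega
    rw [this, pow_succ]
    ring
  rw [Finset.sum_congr rfl this, Finset.sum_neg_distrib]
  simp
  ring

lemma altSum_self (n : ℕ → ℕ) (e : ℕ) :
    ∑ t ∈ Finset.Icc e e, (-1 : ℤ) ^ (t - e) * (n t : ℤ) = (n e : ℤ) := by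
  simp

lemma altSum_gt (n : ℕ → ℕ) (j e : ℕ) (hj : e < j) :
    ∑ t ∈ Finset.Icc j e, (-1 : ℤ) ^ (t - j) * (n t : ℤ) = 0 := by
  rw [Finset.Icc_eq_empty (by omega), Finset.sum_empty]

end Groth.Agent.Helper2.BE
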