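import Mathlib
import Groth.Prelude.Def_CAlgX
import Groth.Agent.Lib.Helper4.Fitting19
import Groth.Agent.Lib.Helper6.McCoyRank

/-!
# Buchsbaum–Eisenbud: basic facts on ideals of minors, rank and Fitting ideals of cokernels
-/

set_option autoImplicit false
universe u

namespace Groth.Agent.Helper2.BE

open Matrix

variable {R : Type u} [CommRing R]

section
variable {a b : ℕ} (A : Matrix (Fin b) (Fin a) R)

lemma fitting_minorIdeal_eq (p : ℕ) :
    Groth.Agent.Lib.Helper4.Fitting19.minorIdeal A.mulVecLin p = CAlgX.minorIdeal A p := by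
  unfold Groth.Agent.Lib.Helper4.Fitting19.minorIdeal CAlgX.minorIdeal
  congr 1
  ext d
  have key : ∀ (e : Fin p → Fin b) (c : Fin p → Fin a),
      (Matrix.of fun r s => A.mulVecLin (Pi.single (c s) 1) (e r)) = A.submatrix e c := by
    intro e c
    ext r s
    simp
  constructor
  · rintro ⟨e, c, rfl⟩
    exact ⟨(e, c), by rw [key]⟩
  · rintro ⟨⟨e, c⟩, rfl⟩
    exact ⟨e, c, by rw [key]⟩

/-- Fitting ideals of the cokernel of a matrix -/
theorem fitt_coker (k : ℕ) :
    Fitt.ideal R ((Fin b → R) ⧸ LinearMap.range A.mulVecLin) k = CAlgX.minorIdeal A (b - k) := by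
  rw [Groth.Agent.Lib.Helper4.Fitting19.ideal_coker, fitting_minorIdeal_eq]

lemma minorIdeal_eq_bot_of_rows_lt (t : ℕ) (h : b < t) : CAlgX.minorIdeal A t = ⊥ := by
  unfold CAlgX.minorIdeal
  rw [Ideal.span_eq_bot]
  rintro _ ⟨fg, rfl⟩
  have hf : ¬ Function.Injective fg.1 := by
    intro hinj
    have := Fintype.card_le_of_injective _ hinj
    simp at this
    omega
  rw [Function.Injective] at hf
  push Not at hf
  obtain ⟨i, j, hij, hne⟩ := hf
  apply Matrix.det_zero_of_row_eq hne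
  ext k
  simp [Matrix.submatrix_apply, hij]

lemma minorIdeal_eq_bot_of_cols_lt (t : ℕ) (h : a < t) : CAlgX.minorIdeal A t = ⊥ :=
  Groth.Agent.Helper6.McCoy.minorIdeal_eq_bot_of_lt A t h

lemma minorIdeal_succ_le (t : ℕ) : CAlgX.minorIdeal A (t + 1) ≤ CAlgX.minorIdeal A t := by
  by_cases h : t + 1 ≤ b
  · have h1 := fitt_coker A (b - (t + 1))
    have h2 := fitt_coker A (b - t)
    rw [show b - (b - (t + 1)) = t + 1 by omega] at h1
    rw [show b - (b - t) = t by omega] at h2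
    rw [← h1, ← h2]
    exact Groth.Agent.Helper4.Fitting.ideal_mono (by omega)
  · rw [minorIdeal_eq_bot_of_rows_lt A (t + 1) (by omega)]
    exact bot_le

lemma minorIdeal_anti {s t : ℕ} (h : s ≤ t) : CAlgX.minorIdeal A t ≤ CAlgX.minorIdeal A s := by
  induction h with
  | refl => exact le_rfl
  | step _ ih => exact (minorIdeal_succ_le A _).trans ih

lemma minorIdeal_zero : CAlgX.minorIdeal A 0 = ⊤ := by
  rw [Ideal.eq_top_iff_one]
  unfold CAlgX.minorIdeal
  apply Ideal.subset_span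
  refine ⟨(Fin.elim0, Fin.elim0), ?_⟩
  simp

lemma bddAbove_rank : BddAbove {r : ℕ | CAlgX.minorIdeal A r ≠ ⊥} := by
  refine ⟨a, fun r hr => ?_⟩
  by_contra hlt
  push Not at hlt
  exact hr (minorIdeal_eq_bot_of_cols_lt A r hlt)

lemma matrixRank_spec [Nontrivial R] :
    CAlgX.minorIdeal A (CAlgX.matrixRank A) ≠ ⊥ ∧
      CAlgX.minorIdeal A (CAlgX.matrixRank A + 1) = ⊥ := by
  have hne : {r : ℕ | CAlgX.minorIdeal A r ≠ ⊥}.Nonempty :=
    ⟨0, by rw [Set.mem_ofPred_eq, minorIdeal_zero]; exact top_ne_bot⟩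
  constructor
  · exact Nat.sSup_mem hne (bddAbove_rank A)
  · by_contra hcon
    have : CAlgX.matrixRank A + 1 ≤ CAlgX.matrixRank A := le_csSup (bddAbove_rank A) hcon
    omega

lemma matrixRank_eq_of (ρ : ℕ) (h1 : CAlgX.minorIdeal A ρ ≠ ⊥)
    (h2 : CAlgX.minorIdeal A (ρ + 1) = ⊥) : CAlgX.matrixRank A = ρ := by
  unfold CAlgX.matrixRank
  apply IsGreatest.csSup_eq
  refine ⟨h1, ?_⟩
  intro r hr
  by_contra hlt
  push Not at hlt
  apply hr
  rw [eq_bot_iff, ← h2]
  exact minorIdeal_anti A (by omega)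

lemma minorIdeal_map {S : Type*} [CommRing S] (f : R →+* S) (t : ℕ) :
    CAlgX.minorIdeal (A.map f) t = (CAlgX.minorIdeal A t).map f := by
  unfold CAlgX.minorIdeal
  rw [Ideal.map_span, ← Set.range_comp]
  congr 1
  ext d
  constructor
  · rintro ⟨fg, rfl⟩
    refine ⟨fg, ?_⟩
    simp only [Function.comp_apply]
    rw [RingHom.map_det]
    rfl
  · rintro ⟨fg, rfl⟩
    refine ⟨fg, ?_⟩
    simp only [Function.comp_apply]
    rw [RingHom.map_det]
    rfl

end

end Groth.Agent.Helper2.BE
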