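import Mathlib
import Groth.Agent.Lib.Helper2.HB.FFRLoc
import Groth.Agent.Lib.Helper2.BE.Minors
import Groth.Agent.Lib.Helper8.Depth21
import Groth.Agent.Lib.Helper8.Depth19

/-!
# Buchsbaum–Eisenbud: localization lemmas for matrices
-/

set_option autoImplicit false
universe u

namespace Groth.Agent.Helper2.BE

open Matrix Groth.Agent.Helper2.HB LocCoh IsLocalRing

variable {R : Type u} [CommRing R]

section
variable (M : Submonoid R) {S : Type u} [CommRing S] [Algebra R S] [IsLocalization M S]

lemma vecMap_smul {a : ℕ} (s : R) (v : Fin a → R) :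
    vecMap S a (s • v) = algebraMap R S s • vecMap S a v := by
  funext i
  simp [vecMap_apply]

lemma vecMap_mulVec {b c : ℕ} (B : Matrix (Fin b) (Fin c) R) (w : Fin c → R) :
    vecMap S b (B *ᵥ w) = (B.map (algebraMap R S)) *ᵥ (vecMap S c w) := by
  have := map_mulVec (S := S) B w
  funext i
  have h := congrFun this i
  rw [vecMap_apply, ← h]
  rfl

include M in
lemma vecMap_mem_range_map_iff {b c : ℕ} (B : Matrix (Fin b) (Fin c) R) (u : Fin b → R) :
    vecMap S b u ∈ LinearMap.range (B.map (algebraMap R S)).mulVecLin ↔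
      ∃ t ∈ M, t • u ∈ LinearMap.range B.mulVecLin := by
  constructor
  · rintro ⟨w', hw'⟩
    obtain ⟨m, w'', hw''⟩ := exists_clear_vec M w'
    have h1 : vecMap S c w'' = algebraMap R S (m : R) • w' := by
      funext i
      rw [vecMap_apply, hw'' i]
      rfl
    have h2 : vecMap S b ((m : R) • u - B *ᵥ w'') = 0 := by
      rw [map_sub, vecMap_smul, vecMap_mulVec, h1, ← hw', Matrix.mulVecLin_apply,
        Matrix.mulVec_smul, sub_self]
    obtain ⟨t, ht, htz⟩ := vecMap_eq_zero M _ h2
    refine ⟨t * m, M.mul_mem ht m.2, ⟨t • w'', ?_⟩⟩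
    rw [Matrix.mulVecLin_apply, Matrix.mulVec_smul]
    rw [smul_sub, sub_eq_zero] at htz
    rw [← htz, smul_smul]
  · rintro ⟨t, ht, w, hw⟩
    have htu : IsUnit (algebraMap R S t) := IsLocalization.map_units S ⟨t, ht⟩
    have h1 : algebraMap R S t • vecMap S b u ∈
        LinearMap.range (B.map (algebraMap R S)).mulVecLin := by
      refine ⟨vecMap S c w, ?_⟩
      rw [Matrix.mulVecLin_apply, ← vecMap_mulVec, ← vecMap_smul, ← hw, Matrix.mulVecLin_apply]
    have h2 := Submodule.smul_mem _ (↑(htu.unit⁻¹) : S) h1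
    rwa [smul_smul, IsUnit.val_inv_mul, one_smul] at h2

end

section
variable (P : Ideal R) [P.IsPrime]

/-- transfer of "annihilator is `P`" to the localization at `P` -/
lemma mem_maximalIdeal_iff_smul_mem_range {b c : ℕ} (B : Matrix (Fin b) (Fin c) R)
    (v : Fin b → R) (hv : ∀ s : R, s ∈ P ↔ s • v ∈ LinearMap.range B.mulVecLin)
    (σ : Localization.AtPrime P) :
    σ ∈ maximalIdeal (Localization.AtPrime P) ↔
      σ • vecMap (Localization.AtPrime P) b v ∈
        LinearMap.range (B.map (algebraMap R (Localization.AtPrime P))).mulVecLin := by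
  obtain ⟨s, t, rfl⟩ := IsLocalization.exists_mk'_eq P.primeCompl σ
  rw [IsLocalization.AtPrime.mk'_mem_maximal_iff (Localization.AtPrime P) P s t]
  have htu : IsUnit (algebraMap R (Localization.AtPrime P) (t : R)) :=
    IsLocalization.map_units _ t
  have hkey : IsLocalization.mk' (Localization.AtPrime P) s t •
        vecMap (Localization.AtPrime P) b v ∈
        LinearMap.range (B.map (algebraMap R (Localization.AtPrime P))).mulVecLin ↔
      vecMap (Localization.AtPrime P) b (s • v) ∈
        LinearMap.range (B.map (algebraMap R (Localization.AtPrime P))).mulVecLin := by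
    have hspec : algebraMap R (Localization.AtPrime P) (t : R) *
        IsLocalization.mk' (Localization.AtPrime P) s t =
        algebraMap R (Localization.AtPrime P) s := by
      rw [mul_comm]
      exact IsLocalization.mk'_spec _ s t
    rw [vecMap_smul, ← hspec, mul_smul]
    constructor
    · intro h
      exact Submodule.smul_mem _ _ h
    · intro h
      have h2 := Submodule.smul_mem _ (↑(htu.unit⁻¹) : Localization.AtPrime P) h
      rwa [smul_smul, IsUnit.val_inv_mul, one_smul] at h2
  rw [hkey, vecMap_mem_range_map_iff P.primeCompl, hv s]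
  constructor
  · intro h
    exact ⟨1, P.primeCompl.one_mem, by rwa [one_smul]⟩
  · rintro ⟨t', ht', h⟩
    rw [smul_smul, ← hv] at h
    rcases (Ideal.IsPrime.mem_or_mem inferInstance h) with h1 | h1
    · exact absurd h1 ht'
    · exact (hv s).mp h1

lemma map_eq_top_of_not_le (J : Ideal R) (h : ¬ J ≤ P) :
    J.map (algebraMap R (Localization.AtPrime P)) = ⊤ := by
  rw [SetLike.not_le_iff_exists] at h
  obtain ⟨x, hxJ, hxP⟩ := h
  have hu : IsUnit (algebraMap R (Localization.AtPrime P) x) :=
    IsLocalization.map_units _ (⟨x, hxP⟩ : P.primeCompl)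
  exact Ideal.eq_top_of_isUnit_mem _ (Ideal.mem_map_of_mem _ hxJ) hu

lemma le_depth_of_regular [IsNoetherianRing R] (J : Ideal R) (hJP : J ≤ P) (rs : List R)
    (hmem : ∀ r ∈ rs, r ∈ J) (hreg : RingTheory.Sequence.IsRegular R rs) :
    (rs.length : ℕ∞) ≤ depth (Localization.AtPrime P) (Localization.AtPrime P) := by
  have h1 : (rs.length : ℕ∞) ≤ idealDepth J R :=
    Groth.Agent.Helper8.Depth.length_le_idealDepth hreg.toIsWeaklyRegular hmem
  have h2 := Groth.Agent.Helper8.Depth.idealDepth_le_depth_localization R J ⟨P, inferInstance⟩ hJP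
  rw [Groth.Agent.Helper8.Depth.depth_localizedModule_self] at h2
  exact h1.trans h2

end

end Groth.Agent.Helper2.BE
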