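import Mathlib
import Groth.Agent.Lib.Helper2.BE.Minors

/-!
# Buchsbaum–Eisenbud: freeness of cokernels over local rings via Fitting ideals
-/

set_option autoImplicit false
universe u

namespace Groth.Agent.Helper2.BE

open Groth.Agent.Helper4.Fitting

variable {S : Type u} [CommRing S]

/-- over a local ring, a finite module with `Fitt_r = ⊤` and `Fitt_k = ⊥` for `k < r` is free of
rank `r` -/
theorem free_of_fitt [IsLocalRing S] (M : Type u) [AddCommGroup M] [Module S M] [Module.Finite S M]
    (r : ℕ) (h1 : ∀ k, k < r → Fitt.ideal S M k = ⊥) (h2 : Fitt.ideal S M r = ⊤) :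
    Module.Free S M ∧ Module.finrank S M = r := by
  obtain ⟨n, x, hx⟩ := Module.Finite.exists_fin (R := S) (M := M)
  have hnle : ¬ Fitt.ideal S M r ≤ IsLocalRing.maximalIdeal S := by
    rw [h2]
    intro h
    exact (IsLocalRing.maximalIdeal.isMaximal S).ne_top (top_le_iff.1 h)
  obtain ⟨f, hf, -, y, hy⟩ := exists_smul_mem_span_of_not_le x hx r _ hnle
  have hfu : IsUnit f := by
    by_contra hnu
    exact hf ((IsLocalRing.mem_maximalIdeal f).mpr hnu)
  obtain ⟨u, rfl⟩ := hfu
  have hspan : Submodule.span S (Set.range y) = ⊤ := by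
    rw [eq_top_iff]
    intro m _
    have := hy ((↑u⁻¹ : S) • m)
    rwa [smul_smul, Units.mul_inv, one_smul] at this
  have hli : LinearIndependent S y := by
    rw [Fintype.linearIndependent_iff]
    intro c hc j
    have hr : 0 < r := Fin.pos j
    have hmem := coord_mem_ideal_of_relation (R := S) y hspan (r - 1) (by omega) c hc j
    rw [h1 (r - 1) (by omega), Ideal.mem_bot] at hmem
    exact hmem
  let b : Module.Basis (Fin r) S M := Module.Basis.mk hli (by rw [hspan])
  refine ⟨Module.Free.of_basis b, ?_⟩
  rw [Module.finrank_eq_card_basis b, Fintype.card_fin]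

/-- Fitting ideals of a finite free module -/
theorem fitt_of_free [Nontrivial S] (M : Type u) [AddCommGroup M] [Module S M] [Module.Free S M]
    [Module.Finite S M] (k : ℕ) :
    (k < Module.finrank S M → Fitt.ideal S M k = ⊥) ∧
      (Module.finrank S M ≤ k → Fitt.ideal S M k = ⊤) := by
  let b := Module.finBasis S M
  constructor
  · intro hk
    exact ideal_eq_bot_of_linearIndependent b b.span_eq b.linearIndependent k hk
  · intro hk
    exact ideal_eq_top_of_span b b.span_eq k hk

section
variable {a b : ℕ} (A : Matrix (Fin b) (Fin a) S)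

/-- the cokernel of a matrix -/
abbrev Cok : Type u := (Fin b → S) ⧸ LinearMap.range A.mulVecLin

theorem cok_free_of_minors [IsLocalRing S] (ρ : ℕ) (h1 : CAlgX.minorIdeal A ρ = ⊤)
    (h2 : CAlgX.minorIdeal A (ρ + 1) = ⊥) :
    Module.Free S (Cok A) ∧ Module.finrank S (Cok A) = b - ρ ∧ ρ ≤ b := by
  have hρ : ρ ≤ b := by
    by_contra hlt
    push Not at hlt
    rw [minorIdeal_eq_bot_of_rows_lt A ρ hlt] at h1
    exact bot_ne_top h1
  have := free_of_fitt (Cok A) (b - ρ) (fun k hk => by
    rw [fitt_coker, eq_bot_iff, ← h2]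
    exact minorIdeal_anti A (by omega)) (by
    rw [fitt_coker, show b - (b - ρ) = ρ by omega, h1])
  exact ⟨this.1, this.2, hρ⟩

theorem minors_of_cok_free [Nontrivial S] [Module.Free S (Cok A)] (t : ℕ) :
    (t ≤ b - Module.finrank S (Cok A) → CAlgX.minorIdeal A t = ⊤) ∧
      (b - Module.finrank S (Cok A) < t → CAlgX.minorIdeal A t = ⊥) := by
  constructor
  · intro ht
    rcases Nat.eq_zero_or_pos t with rfl | htpos
    · exact minorIdeal_zero A
    have h := (fitt_of_free (S := S) (Cok A) (b - t)).2 (by omega)
    rw [fitt_coker, show b - (b - t) = t by omega] at h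
    exact h
  · intro ht
    by_cases htb : t ≤ b
    · have h := (fitt_of_free (S := S) (Cok A) (b - t)).1 (by omega)
      rw [fitt_coker, show b - (b - t) = t by omega] at h
      exact h
    · exact minorIdeal_eq_bot_of_rows_lt A t (by omega)

end

end Groth.Agent.Helper2.BE
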