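import Mathlib
import Groth.Agent.Lib.Helper2.BE.LocalFree
import Groth.Agent.Lib.Helper8.ABS25
import Groth.Agent.Lib.Helper8.ABS19

/-!
# Buchsbaum–Eisenbud: cokernels in a complex of matrices and projective dimension
-/

set_option autoImplicit false
universe u

namespace Groth.Agent.Helper2.BE

open CategoryTheory

variable {S : Type u} [CommRing S]

section
variable {a b c : ℕ} (A : Matrix (Fin a) (Fin b) S) (B : Matrix (Fin b) (Fin c) S)

lemma range_le_ker (hAB : A * B = 0) :
    LinearMap.range B.mulVecLin ≤ LinearMap.ker A.mulVecLin := by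
  rintro _ ⟨w, rfl⟩
  simp [Matrix.mulVec_mulVec, hAB]

/-- the map `coker B → S^a` induced by `A` -/
noncomputable def psi (hAB : A * B = 0) : Cok B →ₗ[S] (Fin a → S) :=
  (LinearMap.range B.mulVecLin).liftQ A.mulVecLin (range_le_ker A B hAB)

@[simp] lemma psi_mk (hAB : A * B = 0) (v : Fin b → S) :
    psi A B hAB (Submodule.Quotient.mk v) = A.mulVecLin v := rfl

lemma range_psi (hAB : A * B = 0) :
    LinearMap.range (psi A B hAB) = LinearMap.range A.mulVecLin :=
  Submodule.range_liftQ _ _ _

lemma psi_injective_iff (hAB : A * B = 0) :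
    Function.Injective (psi A B hAB) ↔
      LinearMap.ker A.mulVecLin = LinearMap.range B.mulVecLin := by
  constructor
  · intro hinj
    apply le_antisymm _ (range_le_ker A B hAB)
    intro v hv
    have h1 : psi A B hAB (Submodule.Quotient.mk v) = 0 := by
      rw [psi_mk]
      exact hv
    have h2 := hinj (h1.trans (map_zero _).symm)
    exact (Submodule.Quotient.mk_eq_zero _).mp h2
  · intro hex
    rw [injective_iff_map_eq_zero]
    intro x hx
    obtain ⟨v, rfl⟩ := Submodule.Quotient.mk_surjective _ x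
    rw [psi_mk] at hx
    have : v ∈ LinearMap.ker A.mulVecLin := hx
    rw [hex] at this
    exact (Submodule.Quotient.mk_eq_zero _).mpr this

lemma psi_exact (hAB : A * B = 0) :
    Function.Exact (psi A B hAB) (LinearMap.range A.mulVecLin).mkQ := by
  rw [LinearMap.exact_iff, Submodule.ker_mkQ, range_psi]

end

/-- projective dimension at most `n` -/
def PdLE (S : Type u) [CommRing S] (M : Type u) [AddCommGroup M] [Module S M] (n : ℕ) : Prop :=
  HasProjectiveDimensionLT (ModuleCat.of S M) (n + 1)

theorem pdLE_succ_iff_of_exact {M₁ M₂ M₃ : Type u} [AddCommGroup M₁] [Module S M₁]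
    [AddCommGroup M₂] [Module S M₂] [AddCommGroup M₃] [Module S M₃]
    (f : M₁ →ₗ[S] M₂) (g : M₂ →ₗ[S] M₃) (hf : Function.Injective f) (hg : Function.Surjective g)
    (hfg : Function.Exact f g) [Module.Projective S M₂] (n : ℕ) :
    PdLE S M₃ (n + 1) ↔ PdLE S M₁ n := by
  let T : ShortComplex (ModuleCat.{u} S) :=
    ModuleCat.shortComplexOfCompEqZero f g hfg.linearMap_comp_eq_zero
  have T_exact : T.ShortExact := ModuleCat.shortComplex_shortExact T hfg hf hg
  have proj : Projective T.X₂ := by
    change Projective (ModuleCat.of S M₂)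
    exact (IsProjective.iff_projective _).mp inferInstance
  exact T_exact.hasProjectiveDimensionLT_X₃_iff n proj

theorem pdLE_zero_iff (M : Type u) [AddCommGroup M] [Module S M] :
    PdLE S M 0 ↔ Module.Projective S M := by
  unfold PdLE
  rw [zero_add, ← projective_iff_hasProjectiveDimensionLT_one, ← IsProjective.iff_projective]

theorem pdLE_mono {M : Type u} [AddCommGroup M] [Module S M] {n m : ℕ} (h : n ≤ m)
    (hM : PdLE S M n) : PdLE S M m := by
  unfold PdLE at hM ⊢
  exact hasProjectiveDimensionLT_of_ge _ (n + 1) (m + 1) (by omega)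

section
variable {a b c : ℕ} (A : Matrix (Fin a) (Fin b) S) (B : Matrix (Fin b) (Fin c) S)

theorem pdLE_cok_succ (hAB : A * B = 0)
    (hex : LinearMap.ker A.mulVecLin = LinearMap.range B.mulVecLin) (s : ℕ) :
    PdLE S (Cok A) (s + 1) ↔ PdLE S (Cok B) s :=
  pdLE_succ_iff_of_exact (psi A B hAB) (LinearMap.range A.mulVecLin).mkQ
    ((psi_injective_iff A B hAB).mpr hex) (Submodule.mkQ_surjective _) (psi_exact A B hAB) s

theorem pdLE_cok_one_of_injective (hinj : LinearMap.ker B.mulVecLin = ⊥) : PdLE S (Cok B) 1 := by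
  have hex : Function.Exact B.mulVecLin (LinearMap.range B.mulVecLin).mkQ := by
    rw [LinearMap.exact_iff, Submodule.ker_mkQ]
  apply (pdLE_succ_iff_of_exact B.mulVecLin (LinearMap.range B.mulVecLin).mkQ
    (LinearMap.ker_eq_bot.mp hinj) (Submodule.mkQ_surjective _) hex 0).mpr
  rw [pdLE_zero_iff]
  infer_instance

end

section AB

open LocCoh Groth.Agent.Helper8.ABS

variable [IsLocalRing S] [IsNoetherianRing S]

theorem exists_depth_eq_of_pdLE (M : Type u) [AddCommGroup M] [Module S M] [Module.Finite S M]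
    [Nontrivial M] (n : ℕ) (h : PdLE S M n) (h0 : depth S M = 0) :
    ∃ d : ℕ, d ≤ n ∧ depth S S = d ∧ ∀ m, PdLE S M m → d ≤ m := by
  obtain ⟨e, hen, he⟩ := exists_projectiveDimension_eq M n h
  have hab := auslander_buchsbaum S M e he
  rw [h0, add_zero] at hab
  refine ⟨e, hen, hab, fun m hm => ?_⟩
  have hle : projectiveDimension (ModuleCat.of S M) ≤ m := (projectiveDimension_le_iff _ m).mpr hm
  rw [he] at hle
  have h1 : ((e : ℕ∞) : WithBot ℕ∞) ≤ ((m : ℕ∞) : WithBot ℕ∞) := hle
  rw [WithBot.coe_le_coe] at h1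
  exact_mod_cast h1

theorem pdLE_depth (M : Type u) [AddCommGroup M] [Module S M] [Module.Finite S M]
    (n : ℕ) (h : PdLE S M n) (d : ℕ) (hd : depth S S = d) : PdLE S M d := by
  rcases subsingleton_or_nontrivial M with hM | hM
  · apply pdLE_mono (Nat.zero_le d)
    rw [pdLE_zero_iff]
    infer_instance
  · obtain ⟨e, hen, he⟩ := exists_projectiveDimension_eq M n h
    have hab := auslander_buchsbaum S M e he
    rw [hd] at hab
    have hed : e ≤ d := by
      have : (e : ℕ∞) ≤ d := by rw [hab]; exact le_self_add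
      exact_mod_cast this
    apply pdLE_mono hed
    exact (projectiveDimension_le_iff _ e).mp he.le

end AB

end Groth.Agent.Helper2.BE
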