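import Mathlib
import Groth.Agent.Lib.Helper2.BE.Setup
import Groth.Agent.Lib.Helper8.Depth7

/-!
# Buchsbaum–Eisenbud: the local step of the backward direction
-/

set_option autoImplicit false
universe u

namespace Groth.Agent.Helper2.BE

open LocCoh IsLocalRing

variable {S : Type u} [CommRing S]

/-- rank count: a map from a free module of rank `ρ` to a free module of rank `N` whose cokernel
is free of rank `N - ρ` is injective (over a local ring). -/
theorem injective_of_rank_count [IsLocalRing S] {M F : Type u} [AddCommGroup M] [Module S M]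
    [AddCommGroup F] [Module S F] [Module.Free S M] [Module.Finite S M] [Module.Free S F]
    [Module.Finite S F] (ψ : M →ₗ[S] F) [Module.Free S (F ⧸ LinearMap.range ψ)]
    (h : Module.finrank S M + Module.finrank S (F ⧸ LinearMap.range ψ) = Module.finrank S F) :
    Function.Injective ψ := by
  classical
  set Rg := LinearMap.range ψ with hRg
  obtain ⟨s, hs⟩ := Module.projective_lifting_property Rg.mkQ LinearMap.id
    (Submodule.mkQ_surjective _)
  have hexact : Function.Exact Rg.subtype Rg.mkQ := LinearMap.exact_subtype_mkQ Rg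
  obtain ⟨eq, heq1, heq2⟩ := hexact.splitSurjectiveEquiv (Submodule.injective_subtype Rg) ⟨s, hs⟩
  -- `Rg` is projective
  have hproj : Module.Projective S Rg := by
    refine Module.Projective.of_split Rg.subtype ((LinearMap.fst S Rg (F ⧸ Rg)).comp eq.toLinearMap)
      ?_
    ext x
    have : eq (Rg.subtype x) = (LinearMap.inl S Rg (F ⧸ Rg)) x := by
      rw [heq1]
      simp
    simp only [LinearMap.coe_comp, LinearEquiv.coe_coe, Function.comp_apply, LinearMap.id_coe,
      id_eq]
    rw [this]
    simp
  haveI : Module.Finite S Rg := Module.Finite.range ψ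
  haveI : Module.Free S Rg := Module.free_of_flat_of_isLocalRing
  have hrank : Module.finrank S F = Module.finrank S Rg + Module.finrank S (F ⧸ Rg) := by
    rw [LinearEquiv.finrank_eq eq, Module.finrank_prod]
  have hrank' : Module.finrank S M = Module.finrank S Rg := by omega
  let e' : M ≃ₗ[S] Rg := LinearEquiv.ofFinrankEq M Rg hrank'
  let f : M →ₗ[S] M := e'.symm.toLinearMap.comp ψ.rangeRestrict
  have hfs : Function.Surjective f := e'.symm.surjective.comp ψ.surjective_rangeRestrict
  have hfi : Function.Injective f := OrzechProperty.injective_of_surjective_endomorphism f hfs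
  intro x y hxy
  apply hfi
  simp only [f, LinearMap.coe_comp, LinearEquiv.coe_coe, Function.comp_apply]
  congr 1
  exact Subtype.ext hxy

section
variable [IsLocalRing S] [IsNoetherianRing S]
  (e : ℕ) (n : ℕ → ℕ) (A : (i : ℕ) → Matrix (Fin (n i)) (Fin (n (i + 1))) S)

include e in
/-- projective dimension along an exact stretch of the complex -/
theorem pdLE_chain (hA : ∀ i, i + 2 ≤ e → A i * A (i + 1) = 0) (lo : ℕ)
    (hex : ∀ i', lo ≤ i' → i' + 2 ≤ e →
      LinearMap.ker (A i').mulVecLin = LinearMap.range (A (i' + 1)).mulVecLin) :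
    ∀ (t i' d' s : ℕ), i' + t = d' → lo ≤ i' → d' + 1 ≤ e → PdLE S (Cok (A d')) s →
      PdLE S (Cok (A i')) (s + t) := by
  intro t
  induction t with
  | zero =>
    intro i' d' s h1 _ _ h
    have : i' = d' := by omega
    subst this
    exact h
  | succ t ih =>
    intro i' d' s h1 h2 h3 h
    have h4 := ih (i' + 1) d' s (by omega) (by omega) h3 h
    exact (pdLE_cok_succ (A i') (A (i' + 1)) (hA i' (by omega)) (hex i' h2 (by omega)) (s + t)).mpr h4

include e in
/-- shifting projective dimension down along an exact stretch of the complex -/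
theorem pdLE_chain_down (hA : ∀ i, i + 2 ≤ e → A i * A (i + 1) = 0)
    (hex : ∀ i', i' + 2 ≤ e →
      LinearMap.ker (A i').mulVecLin = LinearMap.range (A (i' + 1)).mulVecLin) :
    ∀ (t i' s : ℕ), i' + t + 1 ≤ e → PdLE S (Cok (A i')) (s + t) →
      PdLE S (Cok (A (i' + t))) s := by
  intro t
  induction t with
  | zero =>
    intro i' s _ h
    exact h
  | succ t ih =>
    intro i' s h1 h
    have h2 : PdLE S (Cok (A (i' + 1))) (s + t) :=
      (pdLE_cok_succ (A i') (A (i' + 1)) (hA i' (by omega)) (hex i' (by omega)) (s + t)).mp h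
    have h3 := ih (i' + 1) s (by omega) h2
    have h4 : i' + 1 + t = i' + (t + 1) := by omega
    rw [h4] at h3
    exact h3

theorem local_back (hA : ∀ i, i + 2 ≤ e → A i * A (i + 1) = 0)
    (r : ℕ → ℕ) (hr : ∀ i, i + 2 ≤ e → r i + r (i + 1) = n (i + 1))
    (hbot : ∀ i, i < e → CAlgX.minorIdeal (A i) (r i + 1) = ⊥)
    (htop : ∀ i, i < e → depth S S ≤ (i : ℕ∞) → CAlgX.minorIdeal (A i) (r i) = ⊤)
    (hinj : LinearMap.ker (A (e - 1)).mulVecLin = ⊥)
    (i : ℕ) (hi : i + 2 ≤ e)
    (hex : ∀ i', i < i' → i' + 2 ≤ e →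
      LinearMap.ker (A i').mulVecLin = LinearMap.range (A (i' + 1)).mulVecLin)
    (v : Fin (n (i + 1)) → S) (hv : v ∈ LinearMap.ker (A i).mulVecLin)
    (hann : ∀ σ : S, σ ∈ maximalIdeal S ↔ σ • v ∈ LinearMap.range (A (i + 1)).mulVecLin) :
    False := by
  set M := Cok (A (i + 1)) with hM
  set x : M := Submodule.Quotient.mk v with hx
  have hass : maximalIdeal S ∈ associatedPrimes S M := by
    rw [AssociatedPrimes.mem_iff, isAssociatedPrime_iff]
    refine ⟨inferInstance, x, ?_⟩
    ext σ
    rw [Submodule.mem_colon_singleton, hann σ, Submodule.mem_bot, hx,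
      ← Submodule.Quotient.mk_smul, Submodule.Quotient.mk_eq_zero]
  have h0 : depth S M = 0 := (Groth.Agent.Helper8.Depth.depth_eq_zero_iff S M).mpr hass
  haveI : Nontrivial M := Groth.Agent.Helper8.Depth.nontrivial_of_mem_associatedPrimes hass
  have hchain := pdLE_chain e n A hA (i + 1) (fun i' h1 h2 => hex i' (by omega) h2)
  have hpd : PdLE S M (1 + (e - 2 - i)) := by
    have h1 := pdLE_cok_one_of_injective (A (e - 1)) hinj
    exact hchain (e - 2 - i) (i + 1) (e - 1) 1 (by omega) (by omega) (by omega) h1
  obtain ⟨d, hdn, hdS, hdmin⟩ := exists_depth_eq_of_pdLE M _ hpd h0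
  by_cases hcase : i + 1 ≤ d
  · have hde : d < e := by omega
    have h1 := htop d hde (by rw [hdS])
    have h2 := hbot d hde
    obtain ⟨hfree, -, -⟩ := cok_free_of_minors (A d) (r d) h1 h2
    have h3 : PdLE S (Cok (A d)) 0 := by
      rw [pdLE_zero_iff]
      infer_instance
    have h4 := hchain (d - (i + 1)) (i + 1) d 0 (by omega) (by omega) (by omega) h3
    have := hdmin _ h4
    omega
  · push Not at hcase
    have hdi : depth S S ≤ (i : ℕ∞) := by
      rw [hdS]
      exact_mod_cast (by omega : d ≤ i)
    have hdi' : depth S S ≤ ((i + 1 : ℕ) : ℕ∞) := by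
      rw [hdS]
      exact_mod_cast (by omega : d ≤ i + 1)
    obtain ⟨hfree0, hrank0, hle0⟩ := cok_free_of_minors (A i) (r i) (htop i (by omega) hdi)
      (hbot i (by omega))
    obtain ⟨hfree1, hrank1, hle1⟩ := cok_free_of_minors (A (i + 1)) (r (i + 1))
      (htop (i + 1) (by omega) hdi') (hbot (i + 1) (by omega))
    have hri := hr i hi
    set ψ := psi (A i) (A (i + 1)) (hA i hi) with hψ
    have hrange : LinearMap.range ψ = LinearMap.range (A i).mulVecLin := range_psi _ _ _
    let eq : ((Fin (n i) → S) ⧸ LinearMap.range ψ) ≃ₗ[S] Cok (A i) :=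
      Submodule.quotEquivOfEq _ _ hrange
    haveI : Module.Free S ((Fin (n i) → S) ⧸ LinearMap.range ψ) := Module.Free.of_equiv eq.symm
    have hψinj : Function.Injective ψ := by
      apply injective_of_rank_count ψ
      rw [LinearEquiv.finrank_eq eq, hrank0, hrank1, Module.finrank_pi, Fintype.card_fin]
      omega
    have hx0 : ψ x = 0 := by
      rw [hx, hψ, psi_mk]
      exact hv
    have hxz : x = 0 := hψinj (hx0.trans (map_zero ψ).symm)
    have h1 : (1 : S) ∈ maximalIdeal S := by
      rw [hann 1, one_smul]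
      exact (Submodule.Quotient.mk_eq_zero _).mp hxz
    exact (maximalIdeal.isMaximal S).ne_top ((Ideal.eq_top_iff_one _).mpr h1)

end

end Groth.Agent.Helper2.BE
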