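import Mathlib
import Groth.Agent.Lib.Helper2.BE.LocalBack
import Groth.Agent.Lib.Helper2.BE.Loc

/-!
# Buchsbaum–Eisenbud: rank and depth conditions imply exactness
-/

set_option autoImplicit false
universe u

namespace Groth.Agent.Helper2.BE

open Matrix Groth.Agent.Helper2.HB LocCoh IsLocalRing

variable {R : Type u} [CommRing R]

/-- a matrix whose ideal of maximal minors contains a non-zero-divisor is injective -/
theorem ker_eq_bot_of_regular {a b : ℕ} (B : Matrix (Fin a) (Fin b) R) (x : R)
    (hx : x ∈ CAlgX.minorIdeal B b) (hreg : IsSMulRegular R x) :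
    LinearMap.ker B.mulVecLin = ⊥ := by
  apply LinearMap.ker_eq_bot.mpr
  apply Groth.Agent.Helper6.McCoy.injective_of_kills
  intro c hc
  have h1 : c ∈ (CAlgX.minorIdeal B b).annihilator :=
    (Groth.Agent.Helper6.McCoy.mem_annihilator_minorIdeal_iff B c b).mpr hc
  have h2 := Submodule.mem_annihilator.mp h1 x hx
  apply hreg
  simp only [smul_eq_mul, mul_zero]
  rw [mul_comm]
  simpa [smul_eq_mul] using h2

theorem top_injective {a b : ℕ} (B : Matrix (Fin a) (Fin b) R)
    (h : CAlgX.minorIdeal B b = ⊤ ∨ ∃ rs : List R, 1 ≤ rs.length ∧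
      (∀ x ∈ rs, x ∈ CAlgX.minorIdeal B b) ∧ RingTheory.Sequence.IsRegular R rs) :
    LinearMap.ker B.mulVecLin = ⊥ := by
  rcases h with h | ⟨rs, hlen, hmem, hreg⟩
  · apply ker_eq_bot_of_regular B 1 (by rw [h]; exact Submodule.mem_top)
    intro x y hxy
    simpa using hxy
  · match rs, hlen, hmem, hreg with
    | x :: rs', _, hmem, hreg =>
      rw [RingTheory.Sequence.isRegular_cons_iff] at hreg
      exact ker_eq_bot_of_regular B x (hmem x List.mem_cons_self) hreg.1

variable [IsNoetherianRing R]
  (e : ℕ) (n : ℕ → ℕ) (A : (i : ℕ) → Matrix (Fin (n i)) (Fin (n (i + 1))) R)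

theorem be_back (he : 1 ≤ e) (hA : ∀ i, i + 2 ≤ e → A i * A (i + 1) = 0)
    (r : ℕ → ℕ) (hr : ∀ i, i + 2 ≤ e → r i + r (i + 1) = n (i + 1))
    (hrtop : r (e - 1) = n (e - 1 + 1))
    (hbot : ∀ i, i < e → CAlgX.minorIdeal (A i) (r i + 1) = ⊥)
    (hdet : ∀ i, i < e → CAlgX.minorIdeal (A i) (r i) = ⊤ ∨
      ∃ rs : List R, rs.length = i + 1 ∧ (∀ x ∈ rs, x ∈ CAlgX.minorIdeal (A i) (r i)) ∧
        RingTheory.Sequence.IsRegular R rs) :
    LinearMap.ker (A (e - 1)).mulVecLin = ⊥ ∧
      ∀ i, i + 2 ≤ e →
        LinearMap.ker (A i).mulVecLin = LinearMap.range (A (i + 1)).mulVecLin := by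
  have hinj : LinearMap.ker (A (e - 1)).mulVecLin = ⊥ := by
    apply top_injective
    have hd := hdet (e - 1) (by omega)
    rw [hrtop] at hd
    rcases hd with h | ⟨rs, h1, h2, h3⟩
    · exact Or.inl h
    · exact Or.inr ⟨rs, by omega, h2, h3⟩
  refine ⟨hinj, ?_⟩
  have key : ∀ k i, i + 2 + k = e →
      LinearMap.ker (A i).mulVecLin = LinearMap.range (A (i + 1)).mulVecLin := by
    intro k
    induction k using Nat.strong_induction_on with
    | _ k ih =>
      intro i hik
      have hex : ∀ i', i < i' → i' + 2 ≤ e →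
          LinearMap.ker (A i').mulVecLin = LinearMap.range (A (i' + 1)).mulVecLin :=
        fun i' h1 h2 => ih (e - 2 - i') (by omega) i' (by omega)
      by_contra hne
      set ψ := psi (A i) (A (i + 1)) (hA i (by omega)) with hψ
      have hN : LinearMap.ker ψ ≠ ⊥ := fun h =>
        hne ((psi_injective_iff _ _ _).mp (LinearMap.ker_eq_bot.mp h))
      haveI : Nontrivial (LinearMap.ker ψ) := Submodule.nontrivial_iff_ne_bot.mpr hN
      obtain ⟨P, hP⟩ := associatedPrimes.nonempty R (LinearMap.ker ψ)
      rw [AssociatedPrimes.mem_iff, isAssociatedPrime_iff] at hP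
      obtain ⟨hprime, ⟨x0, hx0⟩, hPx⟩ := hP
      obtain ⟨v, rfl⟩ := Submodule.Quotient.mk_surjective _ x0
      have hv : v ∈ LinearMap.ker (A i).mulVecLin := by
        have : ψ (Submodule.Quotient.mk v) = 0 := hx0
        rwa [hψ, psi_mk] at this
      have hmem : ∀ s : R, s ∈ P ↔ s • v ∈ LinearMap.range (A (i + 1)).mulVecLin := by
        intro s
        rw [hPx, Submodule.mem_colon_singleton, Submodule.mem_bot, ← Subtype.coe_inj]
        simp only [Submodule.coe_smul, ZeroMemClass.coe_zero]
        rw [← Submodule.Quotient.mk_smul, Submodule.Quotient.mk_eq_zero]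
      haveI := hprime
      refine local_back (S := Localization.AtPrime P) e n
        (fun j => (A j).map (algebraMap R (Localization.AtPrime P))) ?_ r hr ?_ ?_ ?_ i (by omega)
        ?_ (vecMap (Localization.AtPrime P) _ v) ?_ ?_
      · intro j hj
        rw [← Matrix.map_mul, hA j hj, Matrix.map_zero _ (map_zero _)]
      · intro j hj
        rw [minorIdeal_map, hbot j hj, Ideal.map_bot]
      · intro j hj hdj
        rw [minorIdeal_map]
        rcases hdet j hj with h | ⟨rs, h1, h2, h3⟩
        · rw [h, Ideal.map_top]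
        · apply map_eq_top_of_not_le
          intro hle
          have := le_depth_of_regular P _ hle rs h2 h3
          rw [h1] at this
          have h4 := this.trans hdj
          have h5 : j + 1 ≤ j := by exact_mod_cast h4
          omega
      · exact ker_map_eq_bot P.primeCompl (A (e - 1)) hinj
      · intro j h1 h2
        exact ker_map_eq_range_map P.primeCompl (A j) (A (j + 1)) (hex j h1 h2)
      · rw [LinearMap.mem_ker, Matrix.mulVecLin_apply, ← vecMap_mulVec]
        have : (A i) *ᵥ v = 0 := hv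
        rw [this, map_zero]
      · intro σ
        exact mem_maximalIdeal_iff_smul_mem_range P (A (i + 1)) v hmem σ
  intro i hi
  exact key (e - 2 - i) i (by omega)

end Groth.Agent.Helper2.BE
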