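import Mathlib
import Groth.Agent.Lib.Helper2.BE.LocalBack
import Groth.Agent.Lib.Helper2.BE.Loc
import Groth.Agent.Lib.Helper2.BE.AltSum
import Groth.Agent.Lib.Helper2.HB.FFR

/-!
# Buchsbaum–Eisenbud: exactness implies the rank and depth conditions
-/

set_option autoImplicit false
universe u

namespace Groth.Agent.Helper2.BE

open Matrix Groth.Agent.Helper2.HB LocCoh IsLocalRing

lemma alt_ranks (n : ℕ → ℕ) : ∀ (d i : ℕ),
    alt (ranks n i d) =
      ∑ t ∈ Finset.Icc (i + 1) (i + 1 + d), (-1 : ℤ) ^ (t - (i + 1)) * (n t : ℤ) := by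
  intro d
  induction d with
  | zero =>
    intro i
    rw [ranks_zero, add_zero, altSum_self]
    simp [alt]
  | succ d ih =>
    intro i
    rw [ranks_succ, altSum_succ n (i + 1) (i + 1 + (d + 1)) (by omega)]
    simp only [alt]
    rw [ih (i + 1)]
    have : i + 1 + 1 + d = i + 1 + (d + 1) := by omega
    rw [this]

section Local

variable {S : Type u} [CommRing S] [IsLocalRing S]
  (e : ℕ) (n : ℕ → ℕ) (A' : (i : ℕ) → Matrix (Fin (n i)) (Fin (n (i + 1))) S)

theorem depth0_minors (h0 : Depth0 S)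
    (hA : ∀ i, i + 2 ≤ e →
      LinearMap.ker (A' i).mulVecLin = LinearMap.range (A' (i + 1)).mulVecLin)
    (hlast : LinearMap.ker (A' (e - 1)).mulVecLin = ⊥) (i : ℕ) (hi : i < e) :
    ∃ ρ : ℕ, (ρ : ℤ) = ∑ t ∈ Finset.Icc (i + 1) e, (-1 : ℤ) ^ (t - (i + 1)) * (n t : ℤ) ∧
      CAlgX.minorIdeal (A' i) ρ = ⊤ ∧ CAlgX.minorIdeal (A' i) (ρ + 1) = ⊥ := by
  have hffr := hasFFR_range e n A' hA hlast (e - 1 - i) i (by omega)
  obtain ⟨hfree, hfin, hrank⟩ := free_of_hasFFR h0 _ _ hffr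
  haveI := hfree
  haveI := hfin
  obtain ⟨hqfree, hqrank⟩ := free_quotient_of_free_submodule h0
    (LinearMap.range (A' i).mulVecLin)
  set ρ := Module.finrank S (LinearMap.range (A' i).mulVecLin) with hρ
  haveI : Module.Free S (Cok (A' i)) := hqfree
  have hs : Module.finrank S (Cok (A' i)) = n i - ρ := by
    have : ρ + Module.finrank S (Cok (A' i)) = n i := hqrank
    omega
  have hle : ρ ≤ n i := by
    have : ρ + Module.finrank S (Cok (A' i)) = n i := hqrank
    omega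
  refine ⟨ρ, ?_, ?_, ?_⟩
  · rw [hrank, alt_ranks]
    have : i + 1 + (e - 1 - i) = e := by omega
    rw [this]
  · exact (minors_of_cok_free (A' i) ρ).1 (by rw [hs]; omega)
  · exact (minors_of_cok_free (A' i) (ρ + 1)).2 (by rw [hs]; omega)

end Local

section Global

variable {R : Type u} [CommRing R] [IsNoetherianRing R]

lemma eq_bot_of_map_eq_bot (I : Ideal R)
    (h : ∀ (P : Ideal R) [P.IsPrime], P ∈ associatedPrimes R R →
      I.map (algebraMap R (Localization.AtPrime P)) = ⊥) : I = ⊥ := by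
  by_contra hne
  obtain ⟨x, hxI, hx0⟩ := Submodule.exists_mem_ne_zero_of_ne_bot hne
  obtain ⟨P, hP, hle⟩ := exists_le_isAssociatedPrime_of_isNoetherianRing R x hx0
  haveI := hP.isPrime
  have hfx : algebraMap R (Localization.AtPrime P) x ∈
      I.map (algebraMap R (Localization.AtPrime P)) := Ideal.mem_map_of_mem _ hxI
  rw [h P (AssociatedPrimes.mem_iff.mpr hP), Ideal.mem_bot] at hfx
  obtain ⟨s, hs⟩ := (IsLocalization.map_eq_zero_iff P.primeCompl _ x).mp hfx
  have : (s : R) ∈ (⊥ : Submodule R R).colon {x} := by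
    rw [Submodule.mem_colon_singleton]
    simpa [smul_eq_mul] using hs
  exact s.2 (hle this)

lemma not_le_of_map_eq_top (I P : Ideal R) [P.IsPrime]
    (h : I.map (algebraMap R (Localization.AtPrime P)) = ⊤) : ¬ I ≤ P := by
  intro hle
  have h3 : I.map (algebraMap R (Localization.AtPrime P)) ≤
      IsLocalRing.maximalIdeal (Localization.AtPrime P) := by
    rw [← IsLocalization.AtPrime.map_eq_maximalIdeal P (Localization.AtPrime P)]
    exact Ideal.map_mono hle
  rw [h] at h3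
  exact (IsLocalRing.maximalIdeal.isMaximal _).ne_top (top_le_iff.mp h3)

variable (e : ℕ) (n : ℕ → ℕ) (A : (i : ℕ) → Matrix (Fin (n i)) (Fin (n (i + 1))) R)

/-- the rank statement of Buchsbaum–Eisenbud -/
theorem exact_minors [Nontrivial R]
    (hex : ∀ i, i + 2 ≤ e →
      LinearMap.ker (A i).mulVecLin = LinearMap.range (A (i + 1)).mulVecLin)
    (hlast : LinearMap.ker (A (e - 1)).mulVecLin = ⊥) (i : ℕ) (hi : i < e) :
    ∃ ρ : ℕ, (ρ : ℤ) = ∑ t ∈ Finset.Icc (i + 1) e, (-1 : ℤ) ^ (t - (i + 1)) * (n t : ℤ) ∧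
      (∃ x ∈ CAlgX.minorIdeal (A i) ρ, x ∈ nonZeroDivisors R) ∧
      CAlgX.minorIdeal (A i) (ρ + 1) = ⊥ := by
  have hloc : ∀ (P : Ideal R) [P.IsPrime], P ∈ associatedPrimes R R →
      ∃ ρ : ℕ, (ρ : ℤ) = ∑ t ∈ Finset.Icc (i + 1) e, (-1 : ℤ) ^ (t - (i + 1)) * (n t : ℤ) ∧
        (CAlgX.minorIdeal (A i) ρ).map (algebraMap R (Localization.AtPrime P)) = ⊤ ∧
        (CAlgX.minorIdeal (A i) (ρ + 1)).map (algebraMap R (Localization.AtPrime P)) = ⊥ := by
    intro P _ hP
    have hd := depth0_localization P hP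
    obtain ⟨ρ, h1, h2, h3⟩ := depth0_minors (S := Localization.AtPrime P) e n
      (fun j => (A j).map (algebraMap R (Localization.AtPrime P))) hd
      (fun j hj => ker_map_eq_range_map P.primeCompl (A j) (A (j + 1)) (hex j hj))
      (ker_map_eq_bot P.primeCompl (A (e - 1)) hlast) i hi
    rw [minorIdeal_map] at h2 h3
    exact ⟨ρ, h1, h2, h3⟩
  obtain ⟨P0, hP0⟩ := associatedPrimes.nonempty R R
  haveI := (AssociatedPrimes.mem_iff.mp hP0).isPrime
  obtain ⟨ρ, hρ, -, -⟩ := hloc P0 hP0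
  refine ⟨ρ, hρ, ?_, ?_⟩
  · apply exists_nzd_of_not_le
    intro P hP
    haveI := (AssociatedPrimes.mem_iff.mp hP).isPrime
    obtain ⟨ρ', hρ', h2, -⟩ := hloc P hP
    have : ρ' = ρ := by
      have : (ρ' : ℤ) = (ρ : ℤ) := by rw [hρ', hρ]
      exact_mod_cast this
    subst this
    exact not_le_of_map_eq_top _ P h2
  · apply eq_bot_of_map_eq_bot
    intro P _ hP
    obtain ⟨ρ', hρ', -, h3⟩ := hloc P hP
    have : ρ' = ρ := by
      have : (ρ' : ℤ) = (ρ : ℤ) := by rw [hρ', hρ]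
      exact_mod_cast this
    subst this
    exact h3

/-- the depth statement of Buchsbaum–Eisenbud, prime by prime -/
theorem le_depth_of_exact (hA : ∀ i, i + 2 ≤ e → A i * A (i + 1) = 0)
    (hex : ∀ i, i + 2 ≤ e →
      LinearMap.ker (A i).mulVecLin = LinearMap.range (A (i + 1)).mulVecLin)
    (hlast : LinearMap.ker (A (e - 1)).mulVecLin = ⊥) (i : ℕ) (hi : i < e) (ρ : ℕ)
    (x : R) (hxJ : x ∈ CAlgX.minorIdeal (A i) ρ) (hx : x ∈ nonZeroDivisors R)
    (P : Ideal R) [P.IsPrime] (hJP : CAlgX.minorIdeal (A i) ρ ≤ P) :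
    ((i + 1 : ℕ) : ℕ∞) ≤ depth (Localization.AtPrime P) (Localization.AtPrime P) := by
  by_contra hlt
  push Not at hlt
  set S := Localization.AtPrime P with hS
  have hne : depth S S ≠ ⊤ :=
    Groth.Agent.Helper8.Depth.idealDepth_ne_top
      (Groth.Agent.Helper8.Depth.smul_top_ne_top_of_local S S)
  obtain ⟨d, hd⟩ := ENat.ne_top_iff_exists.mp hne
  have hdi : d ≤ i := by
    rw [← hd] at hlt
    have : d < i + 1 := by exact_mod_cast hlt
    omega
  let A' : (j : ℕ) → Matrix (Fin (n j)) (Fin (n (j + 1))) S := fun j => (A j).map (algebraMap R S)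
  have hA' : ∀ j, j + 2 ≤ e → A' j * A' (j + 1) = 0 := by
    intro j hj
    simp only [A']
    rw [← Matrix.map_mul, hA j hj, Matrix.map_zero _ (map_zero _)]
  have hex' : ∀ j, j + 2 ≤ e →
      LinearMap.ker (A' j).mulVecLin = LinearMap.range (A' (j + 1)).mulVecLin :=
    fun j hj => ker_map_eq_range_map P.primeCompl (A j) (A (j + 1)) (hex j hj)
  have hlast' : LinearMap.ker (A' (e - 1)).mulVecLin = ⊥ :=
    ker_map_eq_bot P.primeCompl (A (e - 1)) hlast
  have h1 : PdLE S (Cok (A' 0)) (1 + (e - 1)) :=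
    pdLE_chain e n A' hA' 0 (fun j _ hj => hex' j hj) (e - 1) 0 (e - 1) 1 (by omega) le_rfl
      (by omega) (pdLE_cok_one_of_injective (A' (e - 1)) hlast')
  have h2 : PdLE S (Cok (A' 0)) (0 + i) := by
    apply pdLE_mono (n := d) (by omega)
    exact pdLE_depth (Cok (A' 0)) _ h1 d hd.symm
  have h3 := pdLE_chain_down e n A' hA' hex' i 0 0 (by omega) h2
  have h4 : 0 + i = i := by omega
  rw [h4] at h3
  rw [pdLE_zero_iff] at h3
  haveI := h3
  haveI : Module.Free S (Cok (A' i)) := Module.free_of_flat_of_isLocalRing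
  have hxS : algebraMap R S x ∈ CAlgX.minorIdeal (A' i) ρ := by
    simp only [A']
    rw [minorIdeal_map]
    exact Ideal.mem_map_of_mem _ hxJ
  have hx0 : algebraMap R S x ≠ 0 := by
    intro h0
    obtain ⟨s, hs⟩ := (IsLocalization.map_eq_zero_iff P.primeCompl S x).mp h0
    have hs0 : (s : R) = 0 := by
      have := (mem_nonZeroDivisors_iff.mp hx).2 (s : R)
      exact this hs
    exact s.2 (by rw [hs0]; exact P.zero_mem)
  by_cases hcase : ρ ≤ n i - Module.finrank S (Cok (A' i))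
  · have htop := (minors_of_cok_free (A' i) ρ).1 hcase
    simp only [A'] at htop
    rw [minorIdeal_map] at htop
    exact not_le_of_map_eq_top _ P htop hJP
  · push Not at hcase
    have hbot := (minors_of_cok_free (A' i) ρ).2 hcase
    rw [hbot, Ideal.mem_bot] at hxS
    exact hx0 hxS

/-- the depth statement of Buchsbaum–Eisenbud -/
theorem exists_regular_of_exact (hA : ∀ i, i + 2 ≤ e → A i * A (i + 1) = 0)
    (hex : ∀ i, i + 2 ≤ e →
      LinearMap.ker (A i).mulVecLin = LinearMap.range (A (i + 1)).mulVecLin)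
    (hlast : LinearMap.ker (A (e - 1)).mulVecLin = ⊥) (i : ℕ) (hi : i < e) (ρ : ℕ)
    (x : R) (hxJ : x ∈ CAlgX.minorIdeal (A i) ρ) (hx : x ∈ nonZeroDivisors R) :
    CAlgX.minorIdeal (A i) ρ = ⊤ ∨
      ∃ rs : List R, rs.length = i + 1 ∧ (∀ y ∈ rs, y ∈ CAlgX.minorIdeal (A i) ρ) ∧
        RingTheory.Sequence.IsRegular R rs := by
  by_cases htop : CAlgX.minorIdeal (A i) ρ = ⊤
  · exact Or.inl htop
  right
  set J := CAlgX.minorIdeal (A i) ρ with hJ
  have hJne : J • (⊤ : Submodule R R) ≠ ⊤ := by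
    rw [smul_eq_mul, Ideal.mul_top]
    exact htop
  have hdepth : ((i + 1 : ℕ) : ℕ∞) ≤ idealDepth J R := by
    rw [Groth.Agent.Helper8.Depth.idealDepth_eq_iInf_depth_localization]
    refine le_iInf₂ fun p hp => ?_
    rw [Groth.Agent.Helper8.Depth.depth_localizedModule_self]
    exact le_depth_of_exact e n A hA hex hlast i hi ρ x hxJ hx p.asIdeal hp
  obtain ⟨rs, hlen, hreg, hmem⟩ :=
    (Groth.Agent.Helper8.Depth.le_idealDepth_iff hJne (i + 1)).mp hdepth
  exact ⟨rs, hlen, hmem,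
    Groth.Agent.Helper8.Depth.isRegular_of_isWeaklyRegular_of_mem hJne hreg hmem⟩

end Global

end Groth.Agent.Helper2.BE
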